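import Mathlib.RingTheory.TensorProduct.DirectLimitFG
import Mathlib.RingTheory.TensorProduct.Maps
import Mathlib.RingTheory.FinitePresentation
import Mathlib.RingTheory.IsTensorProduct
import Mathlib.Tactic

/-!
# Base change maps of algebras, and descent of finite data to finitely generated subalgebras
-/

set_option autoImplicit false
set_option linter.unusedSectionVars false

universe u

open TensorProduct

noncomputable section

namespace Groth.Agent.HopfModel

section BC

variable {K R : Type u} [CommRing K] [CommRing R] [Algebra K R]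
variable {B B' B'' C C' C'' : Type u} [CommRing B] [Algebra K B] [CommRing B'] [Algebra K B'] [CommRing B'']
  [Algebra K B''] [CommRing C] [Algebra K C] [Algebra R C] [IsScalarTower K R C]
  [CommRing C'] [Algebra K C'] [Algebra R C'] [IsScalarTower K R C']
  [CommRing C''] [Algebra K C''] [Algebra R C''] [IsScalarTower K R C'']

variable (R) in
/-- Extension of scalars of a map. -/
def ext (j : B →ₐ[K] C) : R ⊗[K] B →ₐ[R] C :=
  Algebra.TensorProduct.lift (Algebra.ofId R C) j fun _ _ => Commute.all _ _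

@[simp] theorem ext_tmul (j : B →ₐ[K] C) (r : R) (b : B) : ext R j (r ⊗ₜ b) = r • j b := by
  rw [ext, Algebra.TensorProduct.lift_tmul, Algebra.ofId_apply, Algebra.smul_def]

variable (R) in
/-- A map exhibiting the target as the base change. -/
def IsBC (j : B →ₐ[K] C) : Prop := Function.Bijective (ext R j)

variable (R) in
/-- The map of tensor squares. -/
def pairT (j : B →ₐ[K] C) (j' : B' →ₐ[K] C') : B ⊗[K] B' →ₐ[K] C ⊗[R] C' :=
  Algebra.TensorProduct.lift (((Algebra.TensorProduct.includeLeft : C →ₐ[R] C ⊗[R] C').restrictScalars K).comp j)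
    (((Algebra.TensorProduct.includeRight : C' →ₐ[R] C ⊗[R] C').restrictScalars K).comp j') fun _ _ => Commute.all _ _

@[simp] theorem pairT_tmul (j : B →ₐ[K] C) (j' : B' →ₐ[K] C') (b : B) (b' : B') :
    pairT R j j' (b ⊗ₜ b') = j b ⊗ₜ[R] j' b' := by
  simp [pairT]

variable (R) in
theorem isBC_includeRight : IsBC R (Algebra.TensorProduct.includeRight : B →ₐ[K] R ⊗[K] B) := by
  have h : ext R (Algebra.TensorProduct.includeRight : B →ₐ[K] R ⊗[K] B) = AlgHom.id R _ :=
    Algebra.TensorProduct.ext (Subsingleton.elim _ _) (AlgHom.ext fun b => by simp)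
  rw [IsBC, h]
  exact Function.bijective_id

variable (R) in
theorem isBC_ofId : IsBC R (Algebra.ofId K R) := by
  have h : ext R (Algebra.ofId K R) = (Algebra.TensorProduct.rid K R R).toAlgHom :=
    Algebra.TensorProduct.ext (Subsingleton.elim _ _) (Subsingleton.elim _ _)
  rw [IsBC, h]
  exact (Algebra.TensorProduct.rid K R R).bijective

theorem IsBC.pairT {j : B →ₐ[K] C} {j' : B' →ₐ[K] C'} (hj : IsBC R j) (hj' : IsBC R j') :
    IsBC R (pairT R j j') := by
  let eB := AlgEquiv.ofBijective (ext R j) hj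
  let eB' := AlgEquiv.ofBijective (ext R j') hj'
  have heB : ∀ b, eB.symm (j b) = (1 : R) ⊗ₜ b := fun b => eB.symm_apply_eq.2 (show j b = ext R j ((1 : R) ⊗ₜ b) by simp)
  have heB' : ∀ b, eB'.symm (j' b) = (1 : R) ⊗ₜ b := fun b => eB'.symm_apply_eq.2 (show j' b = ext R j' ((1 : R) ⊗ₜ b) by simp)
  let l : C →ₐ[R] R ⊗[K] (B ⊗[K] B') :=
    (Algebra.TensorProduct.map (AlgHom.id R R) Algebra.TensorProduct.includeLeft).comp eB.symm.toAlgHom
  let r : C' →ₐ[R] R ⊗[K] (B ⊗[K] B') :=
    (Algebra.TensorProduct.map (AlgHom.id R R) Algebra.TensorProduct.includeRight).comp eB'.symm.toAlgHom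
  let μ : C ⊗[R] C' →ₐ[R] R ⊗[K] (B ⊗[K] B') := Algebra.TensorProduct.lift l r fun _ _ => Commute.all _ _
  have h1 : ∀ z, μ (ext R (HopfModel.pairT R j j') z) = z := by
    intro z
    induction z using TensorProduct.induction_on with
    | zero => simp
    | add x y hx hy => simp only [map_add, hx, hy]
    | tmul t w =>
      induction w using TensorProduct.induction_on with
      | zero => simp
      | add x y hx hy => simp only [TensorProduct.tmul_add, map_add, hx, hy]
      | tmul b b' =>
        simp [μ, l, r, heB, heB', TensorProduct.smul_tmul']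
  have h2 : ∀ x : R ⊗[K] B, ∀ y : R ⊗[K] B', ∃ z, ext R (HopfModel.pairT R j j') z = ext R j x ⊗ₜ[R] ext R j' y := by
    intro x y
    induction x using TensorProduct.induction_on with
    | zero => exact ⟨0, by simp⟩
    | add a b ha hb =>
      obtain ⟨za, hza⟩ := ha; obtain ⟨zb, hzb⟩ := hb
      exact ⟨za + zb, by simp only [map_add, hza, hzb, TensorProduct.add_tmul]⟩
    | tmul t b =>
      induction y using TensorProduct.induction_on with
      | zero => exact ⟨0, by simp⟩
      | add a b ha hb =>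
        obtain ⟨za, hza⟩ := ha; obtain ⟨zb, hzb⟩ := hb
        exact ⟨za + zb, by simp only [map_add, hza, hzb, TensorProduct.tmul_add]⟩
      | tmul t' b' =>
        exact ⟨(t * t') ⊗ₜ (b ⊗ₜ b'), by
          rw [ext_tmul, ext_tmul, ext_tmul, pairT_tmul, TensorProduct.smul_tmul_smul]⟩
  have hsurj : Function.Surjective (ext R (HopfModel.pairT R j j')) := by
    intro w
    induction w using TensorProduct.induction_on with
    | zero => exact ⟨0, map_zero _⟩
    | add a b ha hb =>
      obtain ⟨za, hza⟩ := ha; obtain ⟨zb, hzb⟩ := hb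
      exact ⟨za + zb, by rw [map_add, hza, hzb]⟩
    | tmul c c' =>
      obtain ⟨x, rfl⟩ := hj.2 c
      obtain ⟨y, rfl⟩ := hj'.2 c'
      exact h2 x y
  exact ⟨Function.LeftInverse.injective h1, hsurj⟩

theorem pairT_map {B₂ B₂' C₂ C₂' : Type u} [CommRing B₂] [Algebra K B₂] [CommRing B₂'] [Algebra K B₂']
    [CommRing C₂] [Algebra K C₂] [Algebra R C₂] [IsScalarTower K R C₂]
    [CommRing C₂'] [Algebra K C₂'] [Algebra R C₂'] [IsScalarTower K R C₂']
    {j : B →ₐ[K] C} {j' : B' →ₐ[K] C'} {i : B₂ →ₐ[K] C₂} {i' : B₂' →ₐ[K] C₂'}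
    {f : B →ₐ[K] B₂} {g : B' →ₐ[K] B₂'} {F : C →ₐ[R] C₂} {G : C' →ₐ[R] C₂'}
    (hf : ∀ b, i (f b) = F (j b)) (hg : ∀ b, i' (g b) = G (j' b)) (z : B ⊗[K] B') :
    pairT R i i' (Algebra.TensorProduct.map f g z) = Algebra.TensorProduct.map F G (pairT R j j' z) := by
  induction z using TensorProduct.induction_on with
  | zero => simp
  | add x y hx hy => simp only [map_add, hx, hy]
  | tmul b b' => simp [hf, hg]

theorem pairT_assoc (j : B →ₐ[K] C) (j' : B' →ₐ[K] C') (j'' : B'' →ₐ[K] C'') (z : (B ⊗[K] B') ⊗[K] B'') :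
    pairT R j (pairT R j' j'') (Algebra.TensorProduct.assoc K K K B B' B'' z) =
      Algebra.TensorProduct.assoc R R R C C' C'' (pairT R (pairT R j j') j'' z) := by
  induction z using TensorProduct.induction_on with
  | zero => simp
  | add x y hx hy => simp only [map_add, hx, hy]
  | tmul w c =>
    induction w using TensorProduct.induction_on with
    | zero => simp
    | add x y hx hy => simp only [TensorProduct.add_tmul, map_add, hx, hy]
    | tmul a b => simp

theorem pairT_comm (j : B →ₐ[K] C) (j' : B' →ₐ[K] C') (z : B ⊗[K] B') :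
    pairT R j' j (Algebra.TensorProduct.comm K B B' z) = Algebra.TensorProduct.comm R C C' (pairT R j j' z) := by
  induction z using TensorProduct.induction_on with
  | zero => simp
  | add x y hx hy => simp only [map_add, hx, hy]
  | tmul b b' => simp

theorem pairT_lift {D E : Type u} [CommRing D] [Algebra K D] [CommRing E] [Algebra K E] [Algebra R E]
    [IsScalarTower K R E] {j : B →ₐ[K] C} {j' : B' →ₐ[K] C'} {i : D →ₐ[K] E}
    {f : B →ₐ[K] D} {g : B' →ₐ[K] D} {F : C →ₐ[R] E} {G : C' →ₐ[R] E}
    (hf : ∀ b, i (f b) = F (j b)) (hg : ∀ b, i (g b) = G (j' b)) (z : B ⊗[K] B') :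
    i (Algebra.TensorProduct.lift f g (fun _ _ => Commute.all _ _) z) =
      Algebra.TensorProduct.lift F G (fun _ _ => Commute.all _ _) (pairT R j j' z) := by
  induction z using TensorProduct.induction_on with
  | zero => simp
  | add x y hx hy => simp only [map_add, hx, hy]
  | tmul b b' => simp [hf, hg]

end BC

section Stage

variable {K R : Type u} [CommRing K] [CommRing R] [Algebra K R]

/-- Change of stage. -/
abbrev tr {A A' : Subalgebra K R} (h : A ≤ A') (V : Type u) [AddCommGroup V] [Module K V] :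
    A ⊗[K] V →ₗ[K] A' ⊗[K] V :=
  LinearMap.rTensor V (Subalgebra.inclusion h).toLinearMap

theorem tr_tr {A A' A'' : Subalgebra K R} (h : A ≤ A') (h' : A' ≤ A'') (V : Type u) [AddCommGroup V] [Module K V]
    (z : A ⊗[K] V) : tr h' V (tr h V z) = tr (h.trans h') V z := by
  rw [tr, tr, ← LinearMap.rTensor_comp_apply]
  rfl

/-- Finitely many elements vanishing in the limit vanish at a finite stage. -/
theorem exists_stage_vanish {V : Type u} [AddCommGroup V] [Module K V] {ι : Type*} [Finite ι]
    {A : Subalgebra K R} (hA : A.FG) (z : ι → A ⊗[K] V) (hz : ∀ i, LinearMap.rTensor V A.val.toLinearMap (z i) = 0) :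
    ∃ (A' : Subalgebra K R) (h : A ≤ A'), A'.FG ∧ ∀ i, tr h V (z i) = 0 := by
  classical
  haveI := Fintype.ofFinite ι
  suffices H : ∀ s : Finset ι, ∃ (A' : Subalgebra K R) (h : A ≤ A'), A'.FG ∧ ∀ i ∈ s, tr h V (z i) = 0 by
    obtain ⟨A', h, hfg, hv⟩ := H Finset.univ
    exact ⟨A', h, hfg, fun i => hv i (Finset.mem_univ i)⟩
  intro s
  induction s using Finset.induction with
  | empty => exact ⟨A, le_rfl, hA, by simp⟩
  | insert i s _ ih =>
    obtain ⟨A', h, hfg, hv⟩ := ih
    have h0 : LinearMap.rTensor V A'.val.toLinearMap (tr h V (z i)) = LinearMap.rTensor V A'.val.toLinearMap 0 := by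
      rw [map_zero, tr, ← LinearMap.rTensor_comp_apply]
      exact hz i
    obtain ⟨A'', h', hfg', he⟩ := TensorProduct.Algebra.eq_of_fg_of_subtype_eq hfg h0
    refine ⟨A'', h.trans h', hfg', fun l hl => ?_⟩
    rw [← tr_tr h h']
    rcases Finset.mem_insert.1 hl with rfl | hl
    · rw [map_zero] at he; exact he
    · rw [hv l hl, map_zero]

variable {B C : Type u} [CommRing B] [Algebra K B] [CommRing C] [Algebra K C]

/-- Finitely many elements of the limit come from a finite stage. -/
theorem exists_stage_lift {ι : Type*} [Finite ι] {V : Type u} [AddCommGroup V] [Module K V] (z : ι → R ⊗[K] V) :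
    ∃ A : Subalgebra K R, A.FG ∧ ∀ i, ∃ y : A ⊗[K] V, LinearMap.rTensor V A.val.toLinearMap y = z i := by
  classical
  haveI := Fintype.ofFinite ι
  choose A hA hz using fun i => TensorProduct.Algebra.exists_of_fg (z i)
  suffices H : ∀ s : Finset ι, ∃ A' : Subalgebra K R, A'.FG ∧ ∀ i ∈ s, A i ≤ A' by
    obtain ⟨A', hfg, hle⟩ := H Finset.univ
    refine ⟨A', hfg, fun i => ?_⟩
    obtain ⟨y, hy⟩ := hz i
    refine ⟨tr (hle i (Finset.mem_univ i)) V y, ?_⟩
    rw [← hy, tr, ← LinearMap.rTensor_comp_apply]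
    rfl
  intro s
  induction s using Finset.induction with
  | empty => exact ⟨⊥, Subalgebra.fg_bot, by simp⟩
  | insert i s _ ih =>
    obtain ⟨A', hfg, hle⟩ := ih
    refine ⟨A i ⊔ A', (hA i).sup hfg, fun l hl => ?_⟩
    rcases Finset.mem_insert.1 hl with rfl | hl
    · exact le_sup_left
    · exact (hle l hl).trans le_sup_right

theorem map_val_eq (A : Subalgebra K R) (z : A ⊗[K] C) :
    Algebra.TensorProduct.map A.val (AlgHom.id K C) z = LinearMap.rTensor C A.val.toLinearMap z := by
  induction z using TensorProduct.induction_on with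
  | zero => simp
  | add u v hu hv => simp only [map_add, hu, hv]
  | tmul t a => simp

theorem map_incl_eq {A A' : Subalgebra K R} (h : A ≤ A') (z : A ⊗[K] C) :
    Algebra.TensorProduct.map (Subalgebra.inclusion h) (AlgHom.id K C) z = tr h C z := by
  induction z using TensorProduct.induction_on with
  | zero => simp
  | add u v hu hv => simp only [map_add, hu, hv]
  | tmul t a => simp

/-- A map out of a finitely presented algebra descends to a finite stage. -/
theorem exists_stage_hom [Algebra.FinitePresentation K B] (θ : B →ₐ[K] R ⊗[K] C) {A₀ : Subalgebra K R}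
    (hA₀ : A₀.FG) :
    ∃ (A : Subalgebra K R) (_ : A₀ ≤ A) (_ : A.FG) (f : B →ₐ[K] A ⊗[K] C),
      ∀ b, Algebra.TensorProduct.map A.val (AlgHom.id K C) (f b) = θ b := by
  classical
  obtain ⟨m, q, hq, g, hg⟩ := (inferInstance : Algebra.FinitePresentation K B).out
  obtain ⟨A₁, hA₁, hl⟩ := exists_stage_lift fun i : Fin m => θ (q (MvPolynomial.X i))
  choose v hv using hl
  let A₂ := A₀ ⊔ A₁
  have h₁ : A₁ ≤ A₂ := le_sup_right
  let φ : MvPolynomial (Fin m) K →ₐ[K] A₂ ⊗[K] C := MvPolynomial.aeval fun i => tr h₁ C (v i)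
  have hφ : ∀ p, Algebra.TensorProduct.map A₂.val (AlgHom.id K C) (φ p) = θ (q p) := by
    intro p
    rw [← AlgHom.comp_apply, ← AlgHom.comp_apply θ q]
    revert p
    rw [← AlgHom.ext_iff]
    refine MvPolynomial.algHom_ext fun i => ?_
    simp only [AlgHom.comp_apply, φ, MvPolynomial.aeval_X, map_val_eq]
    rw [← hv i, tr, ← LinearMap.rTensor_comp_apply]
    rfl
  obtain ⟨A, h, hA, hz⟩ := exists_stage_vanish (hA₀.sup hA₁) (fun y : g => φ y.1) fun y => by
    rw [← map_val_eq, hφ, show q y.1 = 0 from RingHom.mem_ker.1 (hg ▸ Ideal.subset_span y.2), map_zero]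
  let ψ := (Algebra.TensorProduct.map (Subalgebra.inclusion h) (AlgHom.id K C)).comp φ
  have hle : RingHom.ker q.toRingHom ≤ RingHom.ker ψ.toRingHom := by
    rw [← hg, Ideal.span_le]
    intro y hy
    show Algebra.TensorProduct.map (Subalgebra.inclusion h) (AlgHom.id K C) (φ y) = 0
    rw [map_incl_eq]
    exact hz ⟨y, hy⟩
  refine ⟨A, le_sup_left.trans h, hA, AlgHom.liftOfSurjective q hq ψ hle, fun b => ?_⟩
  obtain ⟨p, rfl⟩ := hq b
  rw [AlgHom.liftOfSurjective_apply, ← hφ]
  show Algebra.TensorProduct.map A.val _ (Algebra.TensorProduct.map _ _ (φ p)) = _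
  rw [map_val_eq, map_val_eq, map_incl_eq, tr, ← LinearMap.rTensor_comp_apply]
  rfl

end Stage

end Groth.Agent.HopfModel
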