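import Groth.Agent.HopfModel.Basic
import Mathlib.RingTheory.HopfAlgebra.TensorProduct
import Mathlib.RingTheory.Bialgebra.TensorProduct
import Mathlib.RingTheory.Extension.Presentation.Core
import Mathlib.RingTheory.HopfAlgebra.Convolution
import Mathlib.RingTheory.FiniteStability

/-!
# Finitely presented Hopf algebras come from finitely generated rings
-/

set_option autoImplicit false
set_option linter.unusedSectionVars false
set_option linter.style.haveILetI false
set_option backward.isDefEq.respectTransparency false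
set_option synthInstance.maxHeartbeats 400000
set_option maxHeartbeats 2000000

universe u

open TensorProduct Coalgebra

noncomputable section

namespace Groth.Agent.HopfModel

variable {K R : Type u} [CommRing K] [CommRing R] [Algebra K R]
variable {B C : Type u} [CommRing B] [Algebra K B] [CommRing C]

/-- Evaluation of a stage in the limit. -/
theorem ext_map_val {W CW : Type u} [CommRing W] [Algebra K W] [CommRing CW] [Algebra K CW] [Algebra R CW]
    [IsScalarTower K R CW] (A : Subalgebra K R) (jW : W →ₐ[K] CW) (z : A ⊗[K] W) :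
    ext R jW (Algebra.TensorProduct.map A.val (AlgHom.id K W) z) = ext A jW z := by
  induction z using TensorProduct.induction_on with
  | zero => simp
  | add x y hx hy => simp only [map_add, hx, hy]
  | tmul a w => simp [Subalgebra.smul_def]

theorem isBC_ext [Algebra K C] [Algebra R C] [IsScalarTower K R C] (A : Subalgebra K R) {j : B →ₐ[K] C}
    (hj : IsBC R j) : IsBC R (ext A j) := by
  have h : ext R (ext A j) = (ext R j).comp (Algebra.TensorProduct.cancelBaseChange K A R R B).toAlgHom := by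
    refine Algebra.TensorProduct.ext (Subsingleton.elim _ _) (AlgHom.ext fun z => ?_)
    induction z using TensorProduct.induction_on with
    | zero => simp
    | add x y hx hy => simp only [map_add, hx, hy]
    | tmul a b => simp [Subalgebra.smul_def, Algebra.smul_def, IsScalarTower.algebraMap_apply A R C]
  rw [IsBC, h]
  exact hj.comp (Algebra.TensorProduct.cancelBaseChange K A R R B).bijective

section Pre

variable [HopfAlgebra R C] [Algebra K C] [IsScalarTower K R C]

/-- Candidate structure maps on a model. -/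
structure Pre (j : B →ₐ[K] C) where
  Δ : B →ₐ[K] B ⊗[K] B
  hΔ : ∀ b, pairT R j j (Δ b) = comul (R := R) (j b)
  ε : B →ₐ[K] K
  hε : ∀ b, algebraMap K R (ε b) = counit (R := R) (j b)
  S : B →ₐ[K] B
  hS : ∀ b, j (S b) = HopfAlgebra.antipode R (j b)

/-- Structure maps exist at a finite stage. -/
theorem exists_pre [Algebra.FinitePresentation K B] {j : B →ₐ[K] C} (hj : IsBC R j) :
    ∃ A : Subalgebra K R, A.FG ∧ Nonempty (Pre (R := R) (ext A j)) := by
  let e := AlgEquiv.ofBijective (ext R j) hj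
  let e2 := AlgEquiv.ofBijective (ext R (pairT R j j)) (hj.pairT hj)
  let e0 := AlgEquiv.ofBijective (ext R (Algebra.ofId K R)) (isBC_ofId R)
  let θΔ : B →ₐ[K] R ⊗[K] (B ⊗[K] B) :=
    (((e2.symm.toAlgHom.comp (Bialgebra.comulAlgHom R C)).restrictScalars K)).comp j
  let θε : B →ₐ[K] R ⊗[K] K := ((e0.symm.toAlgHom.comp (Bialgebra.counitAlgHom R C)).restrictScalars K).comp j
  let θS : B →ₐ[K] R ⊗[K] B := ((e.symm.toAlgHom.comp (HopfAlgebra.antipodeAlgHom R C)).restrictScalars K).comp j
  obtain ⟨A₁, -, hA₁, fΔ, hfΔ⟩ := exists_stage_hom θΔ (Subalgebra.fg_bot (R := K) (A := R))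
  obtain ⟨A₂, h₁₂, hA₂, fε, hfε⟩ := exists_stage_hom θε hA₁
  obtain ⟨A, h₂, hA, fS, hfS⟩ := exists_stage_hom θS hA₂
  refine ⟨A, hA, ?_⟩
  let i : B →ₐ[K] A ⊗[K] B := Algebra.TensorProduct.includeRight
  have hij : ∀ b, ext A j (i b) = j b := fun b => by simp [i]
  let gΔ : B →ₐ[K] A ⊗[K] (B ⊗[K] B) :=
    (Algebra.TensorProduct.map (Subalgebra.inclusion (h₁₂.trans h₂)) (AlgHom.id K (B ⊗[K] B))).comp fΔ
  let gε : B →ₐ[K] A ⊗[K] K := (Algebra.TensorProduct.map (Subalgebra.inclusion h₂) (AlgHom.id K K)).comp fε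
  have hval : ∀ {A' : Subalgebra K R} (h : A' ≤ A) (W : Type u) [CommRing W] [Algebra K W] (z : A' ⊗[K] W),
      Algebra.TensorProduct.map A.val (AlgHom.id K W) (Algebra.TensorProduct.map (Subalgebra.inclusion h) (AlgHom.id K W) z) =
        Algebra.TensorProduct.map A'.val (AlgHom.id K W) z := by
    intro A' h W _ _ z
    induction z using TensorProduct.induction_on with
    | zero => simp
    | add x y hx hy => simp only [map_add, hx, hy]
    | tmul a w => simp
  have hgΔ : ∀ b, ext A (pairT R j j) (gΔ b) = comul (R := R) (j b) := fun b => by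
    rw [← ext_map_val, AlgHom.comp_apply, hval, hfΔ]
    exact e2.apply_symm_apply _
  have hgε : ∀ b, ext A (Algebra.ofId K R) (gε b) = counit (R := R) (j b) := fun b => by
    rw [← ext_map_val, AlgHom.comp_apply, hval, hfε]
    exact e0.apply_symm_apply _
  have hgS : ∀ b, ext A j (fS b) = HopfAlgebra.antipode R (j b) := fun b => by
    rw [← ext_map_val, hfS]
    exact e.apply_symm_apply _
  let w : A ⊗[K] (B ⊗[K] B) →ₐ[A] (A ⊗[K] B) ⊗[A] (A ⊗[K] B) := ext A (pairT A i i)
  have hw : ∀ z, pairT R (ext A j) (ext A j) (w z) = ext A (pairT R j j) z := by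
    intro z
    induction z using TensorProduct.induction_on with
    | zero => simp
    | add x y hx hy => simp only [map_add, hx, hy]
    | tmul a p =>
      induction p using TensorProduct.induction_on with
      | zero => simp
      | add x y hx hy => simp only [TensorProduct.tmul_add, map_add, hx, hy]
      | tmul b b' => simp [w, i]
  refine ⟨{ Δ := ext A ((w.restrictScalars K).comp gΔ)
            hΔ := ?_
            ε := ext A (((ext A (Algebra.ofId K A)).restrictScalars K).comp gε)
            hε := ?_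
            S := ext A fS
            hS := ?_ }⟩
  · intro z
    induction z using TensorProduct.induction_on with
    | zero => simp
    | add x y hx hy => simp only [map_add, hx, hy]
    | tmul a b =>
      simp only [ext_tmul, map_smul, AlgHom.comp_apply, AlgHom.restrictScalars_apply, hw, hgΔ]
      rw [Subalgebra.smul_def, Subalgebra.smul_def, map_smul]
  · intro z
    induction z using TensorProduct.induction_on with
    | zero => simp
    | add x y hx hy => simp only [map_add, hx, hy]
    | tmul a b =>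
      have h1 : ∀ u : A ⊗[K] K, algebraMap A R (ext A (Algebra.ofId K A) u) = ext A (Algebra.ofId K R) u := by
        intro u
        induction u using TensorProduct.induction_on with
        | zero => simp
        | add x y hx hy => simp only [map_add, hx, hy]
        | tmul a k =>
          rw [ext_tmul, ext_tmul, Algebra.ofId_apply, Algebra.ofId_apply, smul_eq_mul, map_mul,
            ← IsScalarTower.algebraMap_apply K A R, Subalgebra.smul_def, smul_eq_mul]
          rfl
      simp only [ext_tmul, AlgHom.comp_apply, AlgHom.restrictScalars_apply, smul_eq_mul, map_mul, h1, hgε]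
      rw [Subalgebra.smul_def, map_smul, smul_eq_mul]
      rfl
  · intro z
    induction z using TensorProduct.induction_on with
    | zero => simp
    | add x y hx hy => simp only [map_add, hx, hy]
    | tmul a b =>
      simp only [ext_tmul, map_smul, hgS]
      rw [Subalgebra.smul_def, Subalgebra.smul_def, map_smul]

/-- Equalities in the limit hold at a finite stage, on a map of models. -/
theorem exists_stage_eq [Algebra.FiniteType K B] {W CW : Type u} [CommRing W] [Algebra K W] [CommRing CW]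
    [Algebra K CW] [Algebra R CW] [IsScalarTower K R CW] {jW : W →ₐ[K] CW} (hW : IsBC R jW)
    (G G' : B →ₐ[K] W) (h : ∀ b, jW (G b) = jW (G' b)) {A₀ : Subalgebra K R} (hA₀ : A₀.FG) :
    ∃ (A : Subalgebra K R) (_ : A₀ ≤ A), A.FG ∧ ∀ b, (1 : A) ⊗ₜ[K] G b = (1 : A) ⊗ₜ[K] G' b := by
  obtain ⟨g, hg⟩ := (‹Algebra.FiniteType K B›).out
  obtain ⟨A, hle, hA, hv⟩ := exists_stage_vanish hA₀ (fun y : g => (1 : A₀) ⊗ₜ[K] (G y.1 - G' y.1)) fun y => by
    have h1 : (1 : R) ⊗ₜ[K] (G y.1 - G' y.1) = 0 := hW.1 (by rw [map_zero, ext_tmul, one_smul, map_sub, h, sub_self])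
    rw [LinearMap.rTensor_tmul]
    simpa using h1
  refine ⟨A, hle, hA, fun b => ?_⟩
  have : ((Algebra.TensorProduct.includeRight : W →ₐ[K] A ⊗[K] W).comp G) =
      (Algebra.TensorProduct.includeRight : W →ₐ[K] A ⊗[K] W).comp G' := by
    refine AlgHom.ext_of_adjoin_eq_top hg fun y hy => ?_
    have h2 := hv ⟨y, hy⟩
    rw [tr, LinearMap.rTensor_tmul, AlgHom.toLinearMap_apply, map_one, TensorProduct.tmul_sub, sub_eq_zero] at h2
    exact h2
  exact AlgHom.congr_fun this b

theorem tmul_mono {W : Type u} [AddCommGroup W] [Module K W] {A A' : Subalgebra K R} (h : A ≤ A') {w w' : W}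
    (e : (1 : A) ⊗ₜ[K] w = (1 : A) ⊗ₜ[K] w') : (1 : A') ⊗ₜ[K] w = (1 : A') ⊗ₜ[K] w' := by
  have := congrArg (tr h W) e
  simpa using this

/-- The axioms hold at a finite stage. -/
theorem exists_hopf [Algebra.FinitePresentation K B] {j : B →ₐ[K] C} (hj : IsBC R j) (P : Pre (R := R) j) :
    ∃ A : Subalgebra K R, A.FG ∧ ∃ (C₀ : Type u) (_ : CommRing C₀) (_ : HopfAlgebra A C₀)
      (_ : Algebra.FinitePresentation A C₀), (IsCocomm R C → IsCocomm A C₀) ∧ Nonempty (R ⊗[A] C₀ ≃ₐc[R] C) := by
  classical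
  let jK := Algebra.ofId K R
  have hjK : IsBC R jK := isBC_ofId R
  -- the equalities in the limit
  have hassoc : ∀ b, pairT R j (pairT R j j) (Algebra.TensorProduct.assoc K K K B B B
      (Algebra.TensorProduct.map P.Δ (AlgHom.id K B) (P.Δ b))) =
      pairT R j (pairT R j j) (Algebra.TensorProduct.map (AlgHom.id K B) P.Δ (P.Δ b)) := fun b => by
    rw [pairT_assoc, pairT_map (R := R) (j := j) (j' := j) (F := Bialgebra.comulAlgHom R C) (G := AlgHom.id R C)
      (fun c => P.hΔ c) (fun c => rfl), pairT_map (R := R) (j := j) (j' := j) (F := AlgHom.id R C)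
      (G := Bialgebra.comulAlgHom R C) (fun c => rfl) (fun c => P.hΔ c), P.hΔ]
    exact Coalgebra.coassoc_apply (R := R) (j b)
  have hεK : ∀ c, jK (P.ε c) = Bialgebra.counitAlgHom R C (j c) := fun c => P.hε c
  have hcr : ∀ b, pairT R jK j (Algebra.TensorProduct.map P.ε (AlgHom.id K B) (P.Δ b)) =
      pairT R jK j ((1 : K) ⊗ₜ[K] b) := fun b => by
    rw [pairT_map (R := R) (j := j) (j' := j) (F := Bialgebra.counitAlgHom R C) (G := AlgHom.id R C) hεK
      (fun c => rfl), P.hΔ, pairT_tmul, map_one]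
    exact Coalgebra.rTensor_counit_comul (j b)
  have hcl : ∀ b, pairT R j jK (Algebra.TensorProduct.map (AlgHom.id K B) P.ε (P.Δ b)) =
      pairT R j jK (b ⊗ₜ[K] (1 : K)) := fun b => by
    rw [pairT_map (R := R) (j := j) (j' := j) (F := AlgHom.id R C) (G := Bialgebra.counitAlgHom R C)
      (fun c => rfl) hεK, P.hΔ, pairT_tmul, map_one]
    exact Coalgebra.lTensor_counit_comul (j b)
  have hlm : ∀ z : C ⊗[R] C, Algebra.TensorProduct.lift (HopfAlgebra.antipodeAlgHom R C) (AlgHom.id R C)
      (fun _ _ => Commute.all _ _) z = LinearMap.mul' R C ((HopfAlgebra.antipode R).rTensor C z) := by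
    intro z
    induction z using TensorProduct.induction_on with
    | zero => simp
    | add x y hx hy => simp only [map_add, hx, hy]
    | tmul a b => simp
  have hlm' : ∀ z : C ⊗[R] C, Algebra.TensorProduct.lift (AlgHom.id R C) (HopfAlgebra.antipodeAlgHom R C)
      (fun _ _ => Commute.all _ _) z = LinearMap.mul' R C ((HopfAlgebra.antipode R).lTensor C z) := by
    intro z
    induction z using TensorProduct.induction_on with
    | zero => simp
    | add x y hx hy => simp only [map_add, hx, hy]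
    | tmul a b => simp
  have hmap : ∀ b, j (algebraMap K B (P.ε b)) = algebraMap R C (counit (R := R) (j b)) := fun b => by
    rw [AlgHom.commutes, IsScalarTower.algebraMap_apply K R C, P.hε]
  have hsr : ∀ b, j (Algebra.TensorProduct.lift P.S (AlgHom.id K B) (fun _ _ => Commute.all _ _) (P.Δ b)) =
      j (algebraMap K B (P.ε b)) := fun b => by
    rw [pairT_lift (R := R) (j := j) (j' := j) (i := j) (F := HopfAlgebra.antipodeAlgHom R C) (G := AlgHom.id R C)
      (fun c => P.hS c) (fun c => rfl), P.hΔ, hlm, hmap]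
    exact HopfAlgebra.mul_antipode_rTensor_comul_apply (R := R) (j b)
  have hsl : ∀ b, j (Algebra.TensorProduct.lift (AlgHom.id K B) P.S (fun _ _ => Commute.all _ _) (P.Δ b)) =
      j (algebraMap K B (P.ε b)) := fun b => by
    rw [pairT_lift (R := R) (j := j) (j' := j) (i := j) (F := AlgHom.id R C) (G := HopfAlgebra.antipodeAlgHom R C)
      (fun c => rfl) (fun c => P.hS c), P.hΔ, hlm', hmap]
    exact HopfAlgebra.mul_antipode_lTensor_comul_apply (R := R) (j b)
  obtain ⟨A₁, -, hA₁, e₁⟩ := exists_stage_eq (hj.pairT (hj.pairT hj))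
    ((Algebra.TensorProduct.assoc K K K B B B).toAlgHom.comp
      ((Algebra.TensorProduct.map P.Δ (AlgHom.id K B)).comp P.Δ))
    ((Algebra.TensorProduct.map (AlgHom.id K B) P.Δ).comp P.Δ) hassoc (Subalgebra.fg_bot (R := K) (A := R))
  obtain ⟨A₂, h₂, hA₂, e₂⟩ := exists_stage_eq (hjK.pairT hj)
    ((Algebra.TensorProduct.map P.ε (AlgHom.id K B)).comp P.Δ) Algebra.TensorProduct.includeRight hcr hA₁
  obtain ⟨A₃, h₃, hA₃, e₃⟩ := exists_stage_eq (hj.pairT hjK)
    ((Algebra.TensorProduct.map (AlgHom.id K B) P.ε).comp P.Δ) Algebra.TensorProduct.includeLeft hcl hA₂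
  obtain ⟨A₄, h₄, hA₄, e₄⟩ := exists_stage_eq hj
    ((Algebra.TensorProduct.lift P.S (AlgHom.id K B) (fun _ _ => Commute.all _ _)).comp P.Δ)
    ((Algebra.ofId K B).comp P.ε) hsr hA₃
  obtain ⟨A₅, h₅, hA₅, e₅⟩ := exists_stage_eq hj
    ((Algebra.TensorProduct.lift (AlgHom.id K B) P.S (fun _ _ => Commute.all _ _)).comp P.Δ)
    ((Algebra.ofId K B).comp P.ε) hsl hA₄
  obtain ⟨A, h₆, hA, e₆⟩ : ∃ (A : Subalgebra K R) (_ : A₅ ≤ A), A.FG ∧ (IsCocomm R C →
      ∀ b, (1 : A) ⊗ₜ[K] Algebra.TensorProduct.comm K B B (P.Δ b) = (1 : A) ⊗ₜ[K] P.Δ b) := by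
    by_cases hc : IsCocomm R C
    · have hcm : ∀ b, pairT R j j (Algebra.TensorProduct.comm K B B (P.Δ b)) = pairT R j j (P.Δ b) := fun b => by
        rw [pairT_comm, P.hΔ]
        exact LinearMap.congr_fun hc.comm_comp_comul (j b)
      obtain ⟨A, h, hA, e⟩ := exists_stage_eq (hj.pairT hj)
        ((Algebra.TensorProduct.comm K B B).toAlgHom.comp P.Δ) P.Δ hcm hA₅
      exact ⟨A, h, hA, fun _ => e⟩
    · exact ⟨A₅, le_rfl, hA₅, fun h => absurd h hc⟩
  replace e₁ := fun b => tmul_mono (((h₂.trans h₃).trans (h₄.trans h₅)).trans h₆) (e₁ b)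
  replace e₂ := fun b => tmul_mono ((h₃.trans (h₄.trans h₅)).trans h₆) (e₂ b)
  replace e₃ := fun b => tmul_mono ((h₄.trans h₅).trans h₆) (e₃ b)
  replace e₄ := fun b => tmul_mono (h₅.trans h₆) (e₄ b)
  replace e₅ := fun b => tmul_mono h₆ (e₅ b)
  -- the structure on the stage
  let i : B →ₐ[K] (A ⊗[K] B) := Algebra.TensorProduct.includeRight
  let i0 := Algebra.ofId K A
  have hom : ∀ {W CW : Type u} [CommRing W] [Algebra K W] [CommRing CW] [Algebra K CW] [Algebra A CW]
      [IsScalarTower K A CW] (ω : W →ₐ[K] CW) {w w' : W}, (1 : A) ⊗ₜ[K] w = (1 : A) ⊗ₜ[K] w' → ω w = ω w' := by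
    intro W CW _ _ _ _ _ _ ω w w' h
    have := congrArg (ext A ω) h
    simpa using this
  let Δ₂ : (A ⊗[K] B) →ₐ[A] (A ⊗[K] B) ⊗[A] (A ⊗[K] B) := ext A ((pairT A i i).comp P.Δ)
  let ε₂ : (A ⊗[K] B) →ₐ[A] A := ext A (i0.comp P.ε)
  let S₂ : (A ⊗[K] B) →ₐ[A] (A ⊗[K] B) := ext A (i.comp P.S)
  have hΔ₂ : ∀ b, pairT A i i (P.Δ b) = Δ₂ (i b) := fun b => by simp [Δ₂, i]
  have hε₂ : ∀ b, i0 (P.ε b) = ε₂ (i b) := fun b => by simp [ε₂, i]
  have hS₂ : ∀ b, i (P.S b) = S₂ (i b) := fun b => by simp [S₂, i]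
  have c1 : (Algebra.TensorProduct.assoc A A A (A ⊗[K] B) (A ⊗[K] B) (A ⊗[K] B)).toAlgHom.comp
      ((Algebra.TensorProduct.map Δ₂ (AlgHom.id A (A ⊗[K] B))).comp Δ₂) =
      (Algebra.TensorProduct.map (AlgHom.id A (A ⊗[K] B)) Δ₂).comp Δ₂ :=
    Algebra.TensorProduct.ext (Subsingleton.elim _ _) (AlgHom.ext fun b => by
      show Algebra.TensorProduct.assoc A A A (A ⊗[K] B) (A ⊗[K] B) (A ⊗[K] B) (Algebra.TensorProduct.map Δ₂ (AlgHom.id A (A ⊗[K] B)) (Δ₂ (i b))) =
        Algebra.TensorProduct.map (AlgHom.id A (A ⊗[K] B)) Δ₂ (Δ₂ (i b))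
      rw [← hΔ₂, ← pairT_map (R := A) (j := i) (j' := i) (i := pairT A i i) (i' := i) (f := P.Δ)
          (g := AlgHom.id K B) hΔ₂ (fun c => rfl),
        ← pairT_map (R := A) (j := i) (j' := i) (i := i) (i' := pairT A i i) (f := AlgHom.id K B) (g := P.Δ)
          (fun c => rfl) hΔ₂, ← pairT_assoc]
      exact hom (pairT A i (pairT A i i)) (e₁ b))
  have c2 : (Algebra.TensorProduct.map ε₂ (AlgHom.id A (A ⊗[K] B))).comp Δ₂ = (Algebra.TensorProduct.lid A (A ⊗[K] B)).symm :=
    Algebra.TensorProduct.ext (Subsingleton.elim _ _) (AlgHom.ext fun b => by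
      show Algebra.TensorProduct.map ε₂ (AlgHom.id A (A ⊗[K] B)) (Δ₂ (i b)) = (1 : A) ⊗ₜ[A] i b
      rw [← hΔ₂, ← pairT_map (R := A) (j := i) (j' := i) (i := i0) (i' := i) (f := P.ε) (g := AlgHom.id K B) hε₂
        (fun c => rfl)]
      refine (hom (pairT A i0 i) (e₂ b)).trans ?_
      simp [i0])
  have c3 : (Algebra.TensorProduct.map (AlgHom.id A (A ⊗[K] B)) ε₂).comp Δ₂ = (Algebra.TensorProduct.rid A A (A ⊗[K] B)).symm :=
    Algebra.TensorProduct.ext (Subsingleton.elim _ _) (AlgHom.ext fun b => by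
      show Algebra.TensorProduct.map (AlgHom.id A (A ⊗[K] B)) ε₂ (Δ₂ (i b)) = i b ⊗ₜ[A] (1 : A)
      rw [← hΔ₂, ← pairT_map (R := A) (j := i) (j' := i) (i := i) (i' := i0) (f := AlgHom.id K B) (g := P.ε)
        (fun c => rfl) hε₂]
      refine (hom (pairT A i i0) (e₃ b)).trans ?_
      simp [i0])
  letI bi : Bialgebra A (A ⊗[K] B) := Bialgebra.ofAlgHom Δ₂ ε₂ c1 c2 c3
  have c4 : (Algebra.TensorProduct.lift S₂ (AlgHom.id A (A ⊗[K] B)) fun _ => Commute.all _).comp (Bialgebra.comulAlgHom A (A ⊗[K] B)) =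
      (Algebra.ofId A (A ⊗[K] B)).comp (Bialgebra.counitAlgHom A (A ⊗[K] B)) :=
    Algebra.TensorProduct.ext (Subsingleton.elim _ _) (AlgHom.ext fun b => by
      show Algebra.TensorProduct.lift S₂ (AlgHom.id A (A ⊗[K] B)) (fun _ => Commute.all _) (Δ₂ (i b)) =
        algebraMap A (A ⊗[K] B) (ε₂ (i b))
      rw [← hΔ₂, ← pairT_lift (R := A) (j := i) (j' := i) (i := i) (f := P.S) (g := AlgHom.id K B) hS₂
        (fun c => rfl), ← hε₂]
      refine (hom i (e₄ b)).trans ?_
      show i (algebraMap K B (P.ε b)) = _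
      rw [AlgHom.commutes]
      exact IsScalarTower.algebraMap_apply K A (A ⊗[K] B) _)
  have c5 : (Algebra.TensorProduct.lift (AlgHom.id A (A ⊗[K] B)) S₂ fun _ _ => Commute.all _ _).comp (Bialgebra.comulAlgHom A (A ⊗[K] B)) =
      (Algebra.ofId A (A ⊗[K] B)).comp (Bialgebra.counitAlgHom A (A ⊗[K] B)) :=
    Algebra.TensorProduct.ext (Subsingleton.elim _ _) (AlgHom.ext fun b => by
      show Algebra.TensorProduct.lift (AlgHom.id A (A ⊗[K] B)) S₂ (fun _ _ => Commute.all _ _) (Δ₂ (i b)) =
        algebraMap A (A ⊗[K] B) (ε₂ (i b))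
      rw [← hΔ₂, ← pairT_lift (R := A) (j := i) (j' := i) (i := i) (f := AlgHom.id K B) (g := P.S) (fun c => rfl)
        hS₂, ← hε₂]
      refine (hom i (e₅ b)).trans ?_
      show i (algebraMap K B (P.ε b)) = _
      rw [AlgHom.commutes]
      exact IsScalarTower.algebraMap_apply K A (A ⊗[K] B) _)
  letI hopf : HopfAlgebra A (A ⊗[K] B) := HopfAlgebra.ofAlgHom S₂ c4 c5
  haveI : Algebra.FinitePresentation A (A ⊗[K] B) := Algebra.FinitePresentation.baseChange A
  refine ⟨A, hA, (A ⊗[K] B), inferInstance, hopf, ‹_›, fun hc => ⟨?_⟩, ?_⟩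
  · have h : (Algebra.TensorProduct.comm A (A ⊗[K] B) (A ⊗[K] B)).toAlgHom.comp Δ₂ = Δ₂ :=
      Algebra.TensorProduct.ext (Subsingleton.elim _ _) (AlgHom.ext fun b => by
        show Algebra.TensorProduct.comm A (A ⊗[K] B) (A ⊗[K] B) (Δ₂ (i b)) = Δ₂ (i b)
        rw [← hΔ₂, ← pairT_comm]
        exact hom (pairT A i i) (e₆ hc b))
    exact congrArg AlgHom.toLinearMap h
  · let j₂ : (A ⊗[K] B) →ₐ[A] C := ext A j
    have hj₂ : IsBC R j₂ := isBC_ext A hj
    have hji : ∀ b, j₂ (i b) = j b := fun b => by simp [j₂, i]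
    have hΔj : ∀ z : (A ⊗[K] B), pairT R j₂ j₂ (Δ₂ z) = comul (R := R) (j₂ z) := by
      intro z
      induction z using TensorProduct.induction_on with
      | zero => simp
      | add x y hx hy => simp only [map_add, hx, hy]
      | tmul a b =>
        have hp : ∀ y, pairT R j₂ j₂ (pairT A i i y) = pairT R j j y := by
          intro y
          induction y using TensorProduct.induction_on with
          | zero => simp
          | add x y hx hy => simp only [map_add, hx, hy]
          | tmul c d => simp [hji]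
        simp only [Δ₂, j₂, ext_tmul, map_smul, AlgHom.comp_apply]
        rw [show pairT R (ext A j) (ext A j) (pairT A i i (P.Δ b)) = _ from hp _, P.hΔ]
        rw [Subalgebra.smul_def, Subalgebra.smul_def, map_smul]
    have hεj : ∀ z : (A ⊗[K] B), algebraMap A R (ε₂ z) = counit (R := R) (j₂ z) := by
      intro z
      induction z using TensorProduct.induction_on with
      | zero => simp
      | add x y hx hy => simp only [map_add, hx, hy]
      | tmul a b =>
        simp only [ε₂, j₂, ext_tmul, AlgHom.comp_apply, smul_eq_mul, map_mul]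
        rw [Subalgebra.smul_def, map_smul, smul_eq_mul, show algebraMap A R (i0 (P.ε b)) = algebraMap K R (P.ε b) from
          (IsScalarTower.algebraMap_apply K A R _).symm, P.hε]
        rfl
    let φ : R ⊗[A] (A ⊗[K] B) →ₐ[R] C := ext R j₂
    have hc1 : (Bialgebra.counitAlgHom R C).comp φ = Bialgebra.counitAlgHom R (R ⊗[A] (A ⊗[K] B)) :=
      Algebra.TensorProduct.ext (Subsingleton.elim _ _) (AlgHom.ext fun z => by
        show counit (R := R) (φ ((1 : R) ⊗ₜ z)) = counit (R := R) ((1 : R) ⊗ₜ[A] z)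
        rw [ext_tmul, one_smul, ← hεj, TensorProduct.counit_tmul, CommSemiring.counit_apply]
        rw [Algebra.algebraMap_eq_smul_one]
        rfl)
    have hc2 : (Algebra.TensorProduct.map φ φ).comp (Bialgebra.comulAlgHom R (R ⊗[A] (A ⊗[K] B))) =
        (Bialgebra.comulAlgHom R C).comp φ :=
      Algebra.TensorProduct.ext (Subsingleton.elim _ _) (AlgHom.ext fun z => by
        show Algebra.TensorProduct.map φ φ (comul (R := R) ((1 : R) ⊗ₜ[A] z)) = comul (R := R) (φ ((1 : R) ⊗ₜ z))
        rw [ext_tmul, one_smul, ← hΔj, TensorProduct.comul_tmul, CommSemiring.comul_apply,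
          show comul (R := A) z = Δ₂ z from rfl]
        generalize Δ₂ z = t
        induction t using TensorProduct.induction_on with
        | zero => simp
        | add x y hx hy => simp only [TensorProduct.tmul_add, map_add, hx, hy]
        | tmul c d => simp [φ])
    exact ⟨BialgEquiv.ofBijective (BialgHom.ofAlgHom φ hc1 hc2) hj₂⟩

end Pre

/-- **A finitely presented Hopf algebra has a model over a finitely generated ring.** -/
theorem exists_model (R C : Type u) [CommRing R] [CommRing C] [HopfAlgebra R C]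
    (hfp : Algebra.FinitePresentation R C) :
    ∃ (R₀ : Type u) (_ : CommRing R₀) (_ : Algebra R₀ R), Algebra.FiniteType ℤ R₀ ∧
      Function.Injective (algebraMap R₀ R) ∧
      ∃ (C₀ : Type u) (_ : CommRing C₀) (_ : HopfAlgebra R₀ C₀) (_ : Algebra.FinitePresentation R₀ C₀),
        (IsCocomm R C → IsCocomm R₀ C₀) ∧ Nonempty (R ⊗[R₀] C₀ ≃ₐc[R] C) := by
  obtain ⟨n, m, ⟨P⟩⟩ := Algebra.Presentation.exists_presentation_fin R C
  let K := P.Core
  let B := P.ModelOfHasCoeffs K
  let e : R ⊗[K] B ≃ₐ[R] C := P.tensorModelOfHasCoeffsEquiv K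
  let j : B →ₐ[K] C := (e.toAlgHom.restrictScalars K).comp Algebra.TensorProduct.includeRight
  have hj : IsBC R j := by
    have : ext R j = e.toAlgHom :=
      Algebra.TensorProduct.ext (Subsingleton.elim _ _) (AlgHom.ext fun b => by simp [j])
    rw [IsBC, this]
    exact e.bijective
  obtain ⟨A, hA, ⟨Q⟩⟩ := exists_pre (R := R) hj
  haveI : Algebra.FinitePresentation A (A ⊗[K] B) := Algebra.FinitePresentation.baseChange A
  obtain ⟨A', hA', C₀, _, _, hfp₀, hcc, he⟩ := exists_hopf (K := A) (R := R) (isBC_ext A hj) Q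
  haveI : Algebra.FiniteType ℤ K := inferInstance
  haveI : Algebra.FiniteType K A := ⟨(Subalgebra.fg_top _).2 hA⟩
  haveI : Algebra.FiniteType ℤ A := Algebra.FiniteType.trans (S := K) inferInstance inferInstance
  haveI : Algebra.FiniteType A A' := ⟨(Subalgebra.fg_top _).2 hA'⟩
  haveI : Algebra.FiniteType ℤ A' := Algebra.FiniteType.trans (S := A) inferInstance inferInstance
  exact ⟨A', inferInstance, inferInstance, inferInstance, Subtype.val_injective, C₀, inferInstance, inferInstance,
    hfp₀, hcc, he⟩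

end Groth.Agent.HopfModel
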